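import Cfsg.Agent.Lib.QE.Br
import Cfsg.Agent.Lib.Inv.SylowTwo
import Cfsg.Agent.S0071

/-! # QE: thin quasisimple subgroups, in the ambient group -/

set_option autoImplicit false
set_option linter.unusedSectionVars false

namespace Cfsg.Lib.QE

open Subgroup Cfsg.Lib.BG Cfsg.Lib.Comp Cfsg.Lib.Core
open scoped Cfsg.Lib.Transfer commutatorElement

variable {G : Type*} [Group G] [Finite G] {A B D J K L P Q S T X : Subgroup G} {a b c g x y : G}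

theorem sol_of_npc (h : HasNormalPComplement 2 G) : Group.IsSolvable G := by
  obtain ⟨N, _, h1, h2⟩ := Transfer.hasNormalPComplement_iff_exists.1 h
  haveI := h2.isNilpotent
  exact isSolvable_of_normal_quotient N (sol_of_odd (PiGrp.p'_iff.2 (coprime_iff_not_dvd.1 h1))) inferInstance

theorem burn {p : ℕ} [Fact p.Prime] (hT : Syl p T L) (ha : a ∈ 𝐂(T)) (hg : g ∈ L) (hb : g * a * g⁻¹ ∈ 𝐂(T)) :
    ∃ n ∈ L ⊓ 𝐍(T), n * a * n⁻¹ = g * a * g⁻¹ := by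
  have h1 : Syl p T (L ⊓ 𝐂[g * a * g⁻¹]) := hT.of_le (le_inf hT.le (le_cent1_iff.2 hb)) inf_le_left
  have h2 : Syl p (g ⋆ T) (L ⊓ 𝐂[g * a * g⁻¹]) := (hT.conj_of_mem hg).of_le
    (le_inf (conj_le_of_mem hT.le hg) (conj_cent1 g a ▸ Transfer.conj_mono g (le_cent1_iff.2 ha))) inf_le_left
  obtain ⟨c, hc, e⟩ := h2.exists_conj_eq h1
  rw [Transfer.conj_conj] at e
  refine ⟨c * g, mem_inf.2 ⟨mul_mem hc.1 hg, norm_of_conj_eq e.symm⟩, ?_⟩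
  rw [show c * g * a * (c * g)⁻¹ = c * (g * a * g⁻¹) * c⁻¹ by group, mem_cent1.1 hc.2, mul_inv_cancel_right]

theorem exists_central (hT : IsPGroup 2 T) (hD : D ≤ T) (hN : T ≤ 𝐍(D)) (h1 : D ≠ ⊥) :
    ∃ d ∈ D ⊓ 𝐂(T), orderOf d = 2 :=
  Inv.exists_involution_mem_of_isPGroup (pgroup_of_le hT (inf_le_left.trans hD))
    (nil_meet_center (pgroup_nil hT) hD hN h1)

theorem Thin.der {Y : Type*} [Group Y] [Finite Y] (h : Thin Y) {T D : Subgroup Y} (hT : Syl 2 T ⊤) (hn : ⁅T, T⁆ ≠ ⊥)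
    (hD : D ≤ T) (hN : T ≤ 𝐍(D)) (h1 : D ≠ ⊥) : D ⊓ ⁅T, T⁆ ≠ ⊥ := by
  obtain ⟨d, hd, o1⟩ := exists_central hT.pgroup hD hN h1
  obtain ⟨t, ht, o2⟩ := exists_central hT.pgroup (der_le T) (norm_der (le_norm T)) hn
  obtain ⟨g, rfl⟩ := isConj_iff.1 (h.one t d o2 o1)
  obtain ⟨n, h2, e⟩ := burn hT ht.2 (mem_top g) hd.2
  refine ne_bot_of_mem (mem_inf.2 ⟨hd.1, e ▸ conj_mem_of_norm (norm_der le_rfl h2.2) ht.1⟩) fun e => ?_
  simp [e] at o1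

/-- `L` is quasisimple, its centre is a 2-group and `L / Z(L)` is thin -/
structure Th (L : Subgroup G) : Prop where
  qs : IsQuasisimple L
  two : IsPGroup 2 ↥𝐙(L)
  thin : Thin (L ⧸ center L)

namespace Th

variable (h : Th L)
include h

theorem perf : ⁅L, L⁆ = L := (qs_iff.1 h.qs).2.1

theorem not_cent (hT : Syl 2 T L) : ¬ T ≤ 𝐂(L) := fun e => by
  have := four_dvd h.qs hT
  rw [relIndex_eq_one.2 e] at this
  omega

theorem sol : Group.IsSolvable (Out (L ⧸ center L)) := by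
  obtain ⟨P⟩ : Nonempty (Sylow 2 (Out (L ⧸ center L))) := inferInstance
  exact sol_of_npc (Inv.hasNormalPComplement_of_isCyclic P (h.thin.cyc _ P.2))

theorem le_inn (hK : K ≤ 𝐍(L)) (hp : ⁅K, K⁆ = K) : K ≤ L ⊔ 𝐂(L) := fun k hk => by
  obtain ⟨l, hl, hc⟩ := exists_mul_mem_centralizer_of_out_solvable h.perf h.sol hK hp hk
  simpa using mul_mem (mem_sup_left (T := 𝐂(L)) hl) (mem_sup_right hc)

theorem cyc1 (hx : x ∈ 𝐍(L)) (hy : y ∈ 𝐍(L)) (x2 : x * x = 1) (y2 : y * y = 1) (c : x * y = y * x)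
    (nx : x ∉ L ⊔ 𝐂(L)) (ny : y ∉ L ⊔ 𝐂(L)) : x * y ∈ L ⊔ 𝐂(L) := by
  set f := (QuotientGroup.mk' (Inn (L ⧸ center L))).comp (ac L)
  have k : ∀ x (hx : x ∈ 𝐍(L)), f ⟨x, hx⟩ = 1 ↔ x ∈ L ⊔ 𝐂(L) := fun x hx =>
    (QuotientGroup.eq_one_iff _).trans (ac_inn h.perf hx)
  have s : ∀ x (hx : x ∈ 𝐍(L)), x * x = 1 → f ⟨x, hx⟩ * f ⟨x, hx⟩ = 1 := fun x hx e => by
    rw [← map_mul, show (⟨x, hx⟩ * ⟨x, hx⟩ : 𝐍(L)) = 1 from Subtype.ext e, map_one]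
  have xy : x * y * (x * y) = 1 := by
    rw [show x * y * (x * y) = x * (y * x) * y by group, ← c, show x * (x * y) * y = x * x * (y * y) by group, x2, y2,
      mul_one]
  have e := Inv.eq_of_isCyclic_of_orderOf_two (h.thin.cyc _ (Inv.isPGroup_closure_pair (k := 1) (s x hx x2) (s y hy y2)
    (by rw [pow_one, pow_two, ← map_mul]; exact s _ (mul_mem hx hy) xy)))
    (subset_closure (Or.inl rfl)) (subset_closure (Or.inr rfl))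
    (Inv.ord_two_iff.2 ⟨fun e => nx ((k x hx).1 e), s x hx x2⟩) (Inv.ord_two_iff.2 ⟨fun e => ny ((k y hy).1 e), s y hy y2⟩)
  refine (k _ (mul_mem hx hy)).1 ?_
  rw [show (⟨x * y, _⟩ : 𝐍(L)) = (⟨x, hx⟩ : 𝐍(L)) * ⟨y, hy⟩ from rfl, map_mul, e, s y hy y2]

theorem inn (hx : x ∈ 𝐍(L)) (h2 : x * x = 1) (hT : Syl 2 T L) (hc : x ∈ 𝐂(T)) : x ∈ L ⊔ 𝐂(L) :=
  inn0 h.qs h.thin.inn hx (h2 ▸ one_mem _) hT fun s hs => by
    rw [← mem_cent.1 hc s hs]; simp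

theorem nab (hT : Syl 2 T L) (hn : ¬ ⁅T, T⁆ ≤ 𝐂(L)) (hP : P ≤ 𝐍(L)) (h2 : IsPGroup 2 P) :
    𝐂(L).relIndex P ≤ 2 * 𝐂(L).relIndex T := by
  obtain ⟨R, e⟩ := br_syl hT
  have h4 := h.thin.nab R fun k => hn ((br_eq_bot ((der_le T).trans hT.le)).1 (by
    rw [br_comm hT.le hT.le, ← e]; exact abelian_iff_der.1 k))
  have h5 := relIndex_dvd_aut h.qs hP
  obtain ⟨n, hn⟩ := IsPGroup.iff_card.1 h2
  obtain ⟨k, -, hk⟩ := (Nat.dvd_prime_pow Nat.prime_two).1 ((BG.relIndex_dvd_card 𝐂(L) P).trans hn.dvd)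
  obtain ⟨m, hm⟩ : ∃ m, Nat.card (R : Subgroup (L ⧸ center L)) = 2 ^ m := IsPGroup.iff_card.1 R.2
  have h6 : ¬ 2 ∣ (R : Subgroup (L ⧸ center L)).index := R.not_dvd_index
  rw [← card_br hT.le, ← e, hm, hk, ← pow_succ']
  rw [← (R : Subgroup (L ⧸ center L)).card_mul_index, hm, hk, mul_assoc] at h5
  refine Nat.pow_le_pow_right two_pos (by_contra fun k2 => h4 ?_)
  have := (pow_dvd_pow 2 (show m + 2 ≤ k by omega)).trans h5
  rw [pow_add, Nat.mul_dvd_mul_iff_left (by positivity)] at this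
  exact (Nat.Coprime.pow_left 2 ((Nat.prime_two.coprime_iff_not_dvd).2 h6)).dvd_of_dvd_mul_left this

theorem der (hT : Syl 2 T L) (hn : ¬ ⁅T, T⁆ ≤ 𝐂(L)) (hD : D ≤ T) (hN : T ≤ 𝐍(D)) (h1 : ¬ D ≤ 𝐂(L)) :
    ∃ d ∈ D ⊓ ⁅T, T⁆, d ∉ 𝐂(L) := by
  obtain ⟨R, e⟩ := br_syl hT
  have h2 := h.thin.der (e ▸ Syl.of_sylow_top R) (by
    rwa [← br_comm hT.le hT.le, Ne, br_eq_bot ((der_le T).trans hT.le)]) (br_mono hD) (br_norm hN)
    (mt (br_eq_bot (hD.trans hT.le)).1 h1)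
  obtain ⟨y, hy, y1⟩ := exists_ne_one h2
  obtain ⟨d, hd, hd', rfl⟩ := mem_br.1 hy.1
  exact ⟨d, mem_inf.2 ⟨hd, mem_of_cl hd' (br_comm hT.le hT.le ▸ hy.2) (center_le_der h.perf h.two hT)⟩,
    mt (cl_one hd').2 y1⟩

theorem cq (hL : L ≤ J) (hn : ¬ L ≤ 𝐂(J)) :
    IsQuasisimple (br J L) ∧ IsPGroup 2 ↥𝐙(br J L) ∧ Nonempty (L ⧸ center L ≃* br J L ⧸ center (br J L)) := by
  have h0 : br J L ≠ ⊥ := mt (br_eq_bot hL).1 hn
  let f : L →* br J L := ((QuotientGroup.mk' (center J)).comp (inclusion hL)).codRestrict _ fun a => cl_mem (hL a.2) a.2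
  have hf : Function.Surjective f := fun y => by
    obtain ⟨a, ha, ha', e⟩ := mem_br.1 y.2
    exact ⟨⟨a, ha⟩, Subtype.ext e⟩
  haveI := (nontrivial_iff_ne_bot _).2 h0
  refine ⟨isQuasisimple_of_surjective h.qs hf, (br_pgroup (L := J) h.two).to_le fun y hy => ?_, cq_equiv h.qs hf⟩
  obtain ⟨a, e⟩ := hf ⟨y, hy.1⟩
  have : a ∈ (center _).comap f := by
    rw [mem_comap, e]; exact (mem_center' _).2 hy.2
  rw [isQuasisimple_comap_center h.qs hf] at this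
  exact mem_br.2 ⟨a, mem_inf.2 ⟨a.2, (mem_center' a.2).1 this⟩, hL a.2, congrArg Subtype.val e⟩

theorem tn (hL : L ≤ J) (hn : ¬ L ≤ 𝐂(J)) : ∃ N o, Tn (br J L) N o := by
  obtain ⟨h1, h2, ⟨e⟩⟩ := h.cq hL hn
  refine ⟨_, _, ?_, card_cq, h2, fun P hP _ => relIndex_dvd_aut h1 hP⟩
  rw [← Nat.card_congr e.toEquiv, ← card_out_congr e]
  exact h.thin.num

variable (hZ : L ⊓ 𝐂(L) = ⊥)
include hZ

theorem eq_one (ha : a ∈ L) (hc : a ∈ 𝐂(L)) : a = 1 := mem_bot.1 (hZ ▸ mem_inf.2 ⟨ha, hc⟩)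

theorem ord (ha : a ∈ L) : orderOf (cl ha) = 2 ↔ orderOf a = 2 := by
  rw [cl_ord, Inv.ord_two_iff, and_comm]
  exact and_congr (not_congr ⟨h.eq_one hZ ha, fun e => e ▸ one_mem _⟩)
    ⟨h.eq_one hZ (mul_mem ha ha), fun e => e ▸ one_mem _⟩

theorem one (ha : a ∈ L) (hb : b ∈ L) (oa : orderOf a = 2) (ob : orderOf b = 2) : ∃ g ∈ L, g * a * g⁻¹ = b := by
  obtain ⟨y, e⟩ := isConj_iff.1 (h.thin.one _ _ ((h.ord hZ ha).2 oa) ((h.ord hZ hb).2 ob))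
  obtain ⟨g, hg, rfl⟩ := cl_surj y
  have h1 := mul_mem (mul_mem hg ha) (inv_mem hg)
  exact ⟨g, hg, inv_mul_eq_one.1 (h.eq_one hZ (mul_mem (inv_mem h1) hb) ((cl_eq h1 hb).1 e))⟩

theorem trans (hT : Syl 2 T L) (hA : T ≤ 𝐂(T)) (ha : a ∈ T) (hb : b ∈ T) (oa : orderOf a = 2) (ob : orderOf b = 2) :
    ∃ n ∈ L ⊓ 𝐍(T), n * a * n⁻¹ = b := by
  obtain ⟨g, hg, rfl⟩ := h.one hZ (hT.le ha) (hT.le hb) oa ob
  exact burn hT (hA ha) hg (hA hb)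

theorem ab (hT : Syl 2 T L) (hA : T ≤ 𝐂(T)) : (∀ s ∈ T, s * s = 1) ∧ (Nat.card T = 4 ∨
    (∀ a ∈ L, orderOf a = 2 → IsPGroup 2 ↥(L ⊓ 𝐂[a])) ∨ ∀ x ∈ 𝐍(L), x * x = 1 → x ∈ L ⊔ 𝐂(L)) := by
  obtain ⟨R, e⟩ := br_syl hT
  obtain ⟨h1, h2⟩ := h.thin.ab R (abelian_iff.2 (e ▸ br_cent hA))
  refine ⟨fun s hs => h.eq_one hZ (hT.le (mul_mem hs hs)) ((cl_one _).1 (h1 _ (e ▸ cl_mem (hT.le hs) hs))),
    h2.imp (fun k => ?_) (Or.imp (fun k a ha oa => ?_) fun k x hx x2 => ?_)⟩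
  · rw [← k, show Nat.card R = Nat.card (br L T) from e ▸ rfl, card_br hT.le, ← inf_relIndex_right,
      eq_bot_mono hZ (le_inf (inf_le_right.trans hT.le) inf_le_left), relIndex_bot_left]
  · refine isPGroup_subgroup_iff.2 fun x hx => ?_
    obtain ⟨n, hn⟩ := isPGroup_subgroup_iff.1 (k _ ((h.ord hZ ha).2 oa)) (cl hx.1)
      (mem_cent1.2 (congrArg QuotientGroup.mk (Subtype.ext (mem_cent1.1 hx.2) : (⟨x, hx.1⟩ * ⟨a, ha⟩ : L) = ⟨a, ha⟩ * ⟨x, hx.1⟩)))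
    exact ⟨n, h.eq_one hZ (pow_mem hx.1 _) ((cl_one _).1 hn)⟩
  · refine (ac_inn h.perf hx).1 ((QuotientGroup.eq_one_iff _).1 (by_contra fun k1 => ?_))
    have : orderOf (QuotientGroup.mk (ac L ⟨x, hx⟩) : Out (L ⧸ center L)) = 2 := Inv.ord_two_iff.2 ⟨k1, by
      rw [← QuotientGroup.mk_mul, ← map_mul, show (⟨x, hx⟩ * ⟨x, hx⟩ : 𝐍(L)) = 1 from Subtype.ext x2, map_one]; rfl⟩
    exact Inv.odd_card_iff_not_two_dvd.1 k (this ▸ orderOf_dvd_natCard _)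

theorem syl_cent (ha : a ∈ L) (h2 : a * a = 1) : ∃ T, Syl 2 T L ∧ T ≤ 𝐂[a] := by
  obtain ⟨T, hT⟩ := Syl.exists 2 L
  by_cases h1 : a = 1
  · exact ⟨T, hT, by rw [h1, cent1_one]; exact le_top⟩
  obtain ⟨t, ht, o⟩ := exists_central hT.pgroup le_rfl (le_norm T) fun e => h.not_cent hT (e ▸ bot_le)
  obtain ⟨g, hg, rfl⟩ := h.one hZ (hT.le ht.1) ha o (Inv.ord_two_iff.2 ⟨h1, h2⟩)
  exact ⟨_, hT.conj_of_mem hg, conj_cent1 g t ▸ Transfer.conj_mono g (le_cent1_iff.2 ht.2)⟩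

theorem simple : IsSimpleGroup L := isSimpleGroup_of_isQuasisimple h.qs
  (eq_bot_iff.2 fun a ha => mem_bot.2 (Subtype.ext (h.eq_one hZ a.2 ((mem_center' a.2).1 ha))))

theorem le_or (hN : L ≤ 𝐍(X)) : L ≤ X ∨ L ⊓ X = ⊥ :=
  (qs_le_or_inf_le_centralizer h.qs hN).imp_right fun e => eq_bot_mono hZ (le_inf inf_le_left e)

theorem four (hT : Syl 2 T L) : ∃ x ∈ T, ∃ y ∈ T, orderOf x = 2 ∧ orderOf y = 2 ∧ x ≠ y ∧ x * y = y * x := by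
  haveI := h.simple hZ
  obtain ⟨E, hE⟩ := Agent.S0204.result (G := L) fun k => isQuasisimple_not_isMulCommutative h.qs k.isMulCommutative
  obtain ⟨g, -, hg⟩ := hT.exists_conj_le ((IsPGroup.of_card (n := 2) hE.card_four).map L.subtype) (map_subtype_le E)
  haveI : Nontrivial E := Finite.one_lt_card_iff_nontrivial.1 (by rw [hE.card_four]; norm_num)
  obtain ⟨x, hx⟩ := exists_ne (1 : E)
  obtain ⟨y, -, hy⟩ := SetLike.not_le_iff_exists.1 fun e : ⊤ ≤ zpowers x =>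
    IsKleinFour.not_isCyclic (G := E) ⟨x, fun a => e (mem_top a)⟩
  have o : ∀ x : E, x ≠ 1 → orderOf (g * (x : L) * g⁻¹) = 2 := fun x hx => by
    rw [Inv.orderOf_conj', orderOf_coe, orderOf_coe]
    exact Inv.ord_two_iff.2 ⟨hx, IsKleinFour.mul_self x⟩
  have m : ∀ x : E, g * (x : L) * g⁻¹ ∈ T := fun x => hg (Transfer.mem_conj.2 ⟨x, by simpa using x.2, by simp [mul_assoc]⟩)
  refine ⟨_, m x, _, m y, o x hx, o y fun e => hy (e ▸ one_mem _), fun e => hy ?_, ?_⟩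
  · rw [← show x = y from Subtype.ext (Subtype.ext (by simpa using e))]; exact mem_zpowers x
  · have : ((x : L) : G) * (y : L) = (y : L) * (x : L) :=
      congrArg (fun a : E => ((a : L) : G)) ((IsKleinFour.isMulCommutative (G := E)).1.1 x y)
    rw [conj_mul, conj_mul, this]

theorem loc : ∃ V ≤ L, IsPGroup 2 V ∧ V ≠ ⊥ ∧ ∃ x ∈ L ⊓ 𝐍(V), (orderOf x).Prime ∧ orderOf x ≠ 2 := by
  obtain ⟨P⟩ : Nonempty (Sylow 2 L) := inferInstance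
  have h1 := mt (Agent.S0071.result P).2 fun k =>
    isQuasisimple_not_isSolvable h.qs (sol_of_npc ((Transfer.hasNormalPComplement_iff_sylow P).2 k))
  push Not at h1
  obtain ⟨Q, hQ, g, hg, h2, h3⟩ := h1
  obtain ⟨X, hX, hp⟩ := exists_prime_le (A := zpowers g) fun e => h3 (zpowers_eq_bot.1 e ▸ one_mem _)
  haveI := Fact.mk hp
  obtain ⟨x, hx⟩ := exists_prime_orderOf_dvd_card' (G := X) _ dvd_rfl
  refine ⟨Q.map L.subtype, map_subtype_le _, (P.2.to_le hQ).map _, fun e => h3 ?_, ((x : L) : G), mem_inf.2 ⟨(x : L).2,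
    map_norm L.subtype (hX.trans (zpowers_le.2 hg)) ⟨x, x.2, rfl⟩⟩, by rwa [orderOf_coe, orderOf_coe, hx], fun e => ?_⟩
  · rw [(map_eq_bot_iff_of_injective _ L.subtype_injective).1 e, cent_bot]; exact mem_top _
  · rw [orderOf_coe, orderOf_coe, hx] at e
    have := card_dvd hX
    rw [e, Nat.card_zpowers] at this
    exact Nat.prime_two.coprime_iff_not_dvd.1 h2.symm this

end Th

end Cfsg.Lib.QE
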