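import Cfsg.Agent.Lib.QE.BigA
import Cfsg.Agent.Lib.KI.SpRu
import Cfsg.Agent.Lib.KI.SpHS
import Cfsg.Agent.Lib.Grp.Orb
import Cfsg.Agent.Lib.Grp.FusTwo

/-! # QE: the involution centralisers of `HS` and `Ru` -/

set_option autoImplicit false
set_option maxRecDepth 100000

namespace Cfsg.Lib.QE

open Subgroup Cfsg.Lib.BG Cfsg.Lib.Comp Cfsg.Lib.KI Cfsg.Lib.Calc Cfsg.Lib.F2 Cfsg.Lib.Grp
open scoped Cfsg.Lib.Transfer

variable {G : Type*} [Group G] [Finite G]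

theorem BP.of_five {s c m : ℕ} {t t₁ t₂ y₁ y₂ : G} (e : y₁ ∈ 𝐂[t₁] ∧ orderOf y₁ = 5 ∧ Ev 𝐂[t₁] 5)
    (hN : Nat.card 𝐂[t₁] = c) (hm : Nat.card ↥(𝐂[t₂] ⊓ 𝐂[y₂]) = m) (e₁ : t = t₁) (e₂ : t₂ = t₁) (e₃ : y₂ = y₁)
    (h : ¬ 5 * 5 ∣ c ∧ ∀ q ∈ L0, q.1 ∣ c → 5 ∣ q.1 ∧ ¬ 2 ^ s ∣ q.1 * q.2 * m) : BP s t := by
  subst e₁ e₂ e₃ hN hm
  have := Fact.mk Nat.prime_five
  exact fun _ q hq d => ⟨5, Nat.prime_five, (h.2 q hq d).1, fun y hy o =>
    card_inf_cent_eq h.1 hy e.1 o e.2.1 ▸ (h.2 q hq d).2⟩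

omit [Finite G] in
theorem BP.of_small {s c : ℕ} {t t₁ : G} (hN : Nat.card 𝐂[t₁] = c) (e₁ : t = t₁) (h : ¬ 2 ^ s ∣ c) : BP s t :=
  fun d => absurd (hN ▸ e₁ ▸ d) h

theorem bp_HS (x : Spor.HS) (hx : orderOf x = 2) : BP 8 x := by
  have := OutS.HS.netG.fin
  have C := cx OutS.HS.netG OutS.HS.cA rfl HS.K.w0
  have h := band_eq_true.1 (of_dicK HS.K.ok)
  refine .of_map Leech.hsEquiv.symm ?_
  obtain ⟨i, a, b⟩ := C.exists_isConj (C.pgp two_pos h.1) (by decide) (by decide) h.2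
    ((Leech.hsEquiv.symm.orderOf_eq x).trans hx)
  refine .of_isConj b ?_
  simp only [List.mem_cons, List.not_mem_nil, or_false] at a
  rcases a with rfl | rfl
  · have h := band_eq_true.1 (of_dicK HS.aA.ok)
    exact .of_five (ev_of_chk (cx OutS.HS.netG OutS.HS.cA rfl HS.aA.w0) (by norm_num) h.2)
      (card_cen1 (cx OutS.HS.netG OutS.HS.cA rfl HS.aA.w0) h.1)
      (card_cen2 (cx OutS.HS.netG OutS.HS.cA rfl HS.aB.w0) (of_dicK HS.aB.ok)) (gam_eq _ (by decide))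
      (gam_eq _ (by decide)) (gam_eq _ (by decide)) (by decide +kernel)
  · exact .of_small (card_cen1 (cx OutS.HS.netG OutS.HS.cA rfl HS.bA.w0) (band_eq_true.1 (of_dicK HS.bA.ok)).1)
      (gam_eq _ (by decide)) (by decide +kernel)

namespace RuZ

/-- words for the elements of the dictionary -/
def w0 : List (List ℕ) := [[4, 2, 3, 3, 2, 4, 2, 2, 3, 2, 2, 3, 2, 3, 1, 3, 2, 2, 3, 3, 3, 3, 2, 3], [2, 3, 1, 3, 3, 3, 1, 3, 1, 1, 1, 1, 4, 1, 4, 1, 3, 2, 4, 2, 2, 3, 3, 4, 2, 3, 3, 2, 4, 2, 2, 3, 2, 2, 3, 2, 3, 1, 3, 2, 2, 3, 3, 3, 3, 2, 3], [2, 3, 1, 3, 3, 3, 1, 3, 1, 1, 1, 1, 4, 1, 4, 1, 3, 2, 4, 2, 2, 3, 3], [2, 4, 1, 3, 2, 2, 3, 1, 4, 2, 3, 2, 2, 2, 4, 2, 2, 4, 2, 2, 4, 1, 4], [2, 2, 2, 3, 1, 1, 1, 1, 4, 1, 4, 2, 2, 3, 3, 2, 3, 3, 1, 4, 4, 4, 4, 4, 4], [2, 2, 4, 4, 2, 2, 3, 3, 1, 1, 3, 1, 4, 4, 1, 4, 4, 1, 1, 4, 4, 4, 2], [4, 4, 2, 2, 3, 1, 3, 2, 4, 4, 4, 2, 2, 3, 1, 4, 2, 3,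 2, 4, 2, 4, 1], [2, 4, 4, 1, 3, 3, 1, 1, 4, 4, 1, 1, 4, 2, 3, 3, 2, 3, 1, 3, 3, 1, 4, 4]]

/-- half of an orbit -/
noncomputable def S : ℕ := nat_lit 0xa803941f8124264a4000712a2080cd06ca842e104d0038029141480201e4d880a3690a0228401501600b4305807800082a28516111316a4194a8000682080001ba042880105500210149040d8412c8110400182084514919017022101268310a814483c0760045058262000060202060885028020028600a0203232e36428842b450861012088070d10056c76d00b00cc6000d848c008048812010a88000220ea410d042010001088082a25090840e2b022245002304d284060657c0888d221d0360ba0a4c94a614c40e486a8084563010522c1128856203309210026e820215220281052030581001eb70822904e2e0296108400940402113124444f4902900489802e520402502b0204b8a882c50ea8a5841f1e06158aa905a60c0321b415600d88950220061c8140030002180228121800474400004c06260852882ec00c0553cac055e11510170871542802b62d14920410830a08c4120002a1450834305020060c2000643220180000c0488462058000500242405c9408801360e02326031548488900d20a2a861519091e459260590025c04c2d800a6008050a00a4009490098a004a200a82152400f223010600041288a28cb1a10602c000b020c049a5288540d31407018c4c454900230854946c50c04082e03c0800a4808c05014241a161848833d90510a005e202110884000080d0828321180f80020d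

theorem ok : dicK OutS.Ru.net 4060 12 (ap2 12) w0 [] (fun D =>
    band (band (weq (ap2 12) D KI.Ru.bs [2] [1, 0]) (cmOK (ap2 12) D KI.Ru.bs [0] [1, 3, 4, 5, 6, 7]))
      (band (invS 4060 (ap2 12) D [1, 3, 4, 5, 6, 7] S)
        (nthK D (fun T => band (bit S 0) (!bit S (ap2 12 T 0))) false 0))) = true := by decide +kernel

theorem cls (x : (⊤ : Subgroup Spor.Ru)) (hx : orderOf x = 2) :
    IsConj x (gam OutS.Ru.netG Ru.aA.w0 0) ∨ IsConj x (gam OutS.Ru.netG Ru.bA.w0 0) := by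
  have := OutS.Ru.netG.fin
  have C := cx OutS.Ru.netG OutS.Ru.cA (ap2_eq 12) Ru.K.w0
  have h := band_eq_true.1 (of_dicK Ru.K.ok)
  obtain ⟨i, a, b⟩ := C.exists_isConj (C.pgp two_pos h.1) (by decide) (by decide) h.2 hx
  simp only [List.mem_cons, List.not_mem_nil, or_false] at a
  rcases a with rfl | rfl
  exacts [.inl (gam_eq OutS.Ru.netG (by decide : Ru.K.w0.getD 0 [] = Ru.aA.w0.getD 0 []) ▸ b),
    .inr (gam_eq OutS.Ru.netG (by decide : Ru.K.w0.getD 1 [] = Ru.bA.w0.getD 0 []) ▸ b)]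

theorem cardA : Nat.card 𝐂[gam OutS.Ru.netG Ru.aA.w0 0] = 245760 :=
  card_cen1 (cx OutS.Ru.netG OutS.Ru.cA (ap2_eq 12) Ru.aA.w0) (band_eq_true.1 (of_dicK Ru.aA.ok)).1

theorem cardB : Nat.card 𝐂[gam OutS.Ru.netG Ru.bA.w0 0] = 116480 :=
  card_cen1 (cx OutS.Ru.netG OutS.Ru.cA (ap2_eq 12) Ru.bA.w0) (band_eq_true.1 (of_dicK Ru.bA.ok)).1

theorem not_mem : gam OutS.Ru.netG Ru.bA.w0 0 ∉
    ⁅𝐂[gam OutS.Ru.netG Ru.bA.w0 0], 𝐂[gam OutS.Ru.netG Ru.bA.w0 0]⁆ := by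
  have := OutS.Ru.netG.fin
  have C := cx OutS.Ru.netG OutS.Ru.cA (ap2_eq 12) w0
  have h := of_dicK ok
  have c := cardB
  have l := fun H hj => (cx OutS.Ru.netG OutS.Ru.cA (ap2_eq 12) Ru.bA.w0).le_card (H := H) hj
    (band_eq_true.1 (band_eq_true.1 (band_eq_true.1 (of_dicK Ru.bA.ok)).1).2).2
  simp only [List.forall_mem_cons] at l
  rw [gam_eq _ (by decide : Ru.bA.w0.getD 44 [] = w0.getD 2 []), gam_eq _ (by decide : Ru.bA.w0.getD 45 [] = w0.getD 3 []),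
    gam_eq _ (by decide : Ru.bA.w0.getD 46 [] = w0.getD 4 []), gam_eq _ (by decide : Ru.bA.w0.getD 47 [] = w0.getD 5 []),
    gam_eq _ (by decide : Ru.bA.w0.getD 48 [] = w0.getD 6 []),
    gam_eq _ (by decide : Ru.bA.w0.getD 38 [] = w0.getD 7 [])] at l
  rw [gam_eq _ (by decide : Ru.bA.w0.getD 0 [] = w0.getD 0 [])] at c ⊢
  generalize gam OutS.Ru.netG w0 = γ at *
  simp only [band_eq_true] at h
  obtain ⟨⟨h1, h2⟩, h3, h4⟩ := h
  have a := C.weq h1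
  have b : gsub γ [1, 3, 4, 5, 6, 7] ≤ 𝐂[γ 0] := gsub_le.2 (gset_one (γ := γ) 0 ▸ C.cmOK h2)
  have m : ∀ i ∈ [1, 3, 4, 5, 6, 7], γ i ∈ zpowers (γ 0) ⊔ gsub γ [1, 3, 4, 5, 6, 7] := fun i hi =>
    mem_sup_right (mem_gsub hi)
  simp only [wd_cons, wd_nil, mul_one] at a
  have e : zpowers (γ 0) ⊔ gsub γ [1, 3, 4, 5, 6, 7] = 𝐂[γ 0] :=
    eq_of_le_of_card_ge (sup_le (zpowers_le.2 (self_mem_cent1 _)) b) (c.trans_le (l _
      ⟨a ▸ mul_mem (m 1 (by simp)) (mem_sup_left (mem_zpowers _)), m 3 (by simp), m 4 (by simp), m 5 (by simp),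
        m 6 (by simp), m 7 (by simp), by simp⟩))
  intro k
  replace k := commutator_le_of_sup e (by rintro _ ⟨i, rfl⟩ _ ⟨j, rfl⟩; exact zpow_mul_comm _ _ _) le_rfl
    (fun x hx g hg => conj_mem_of_norm ((e.ge.trans (sup_le (zpowers_le.2 (cent_le_norm _ (le_cent1_iff.1 b)))
      le_normalizer)) hg) hx) k
  obtain ⟨T, t1, t2⟩ := C.nthK h4
  obtain ⟨t2, t3⟩ := band_eq_true.1 t2
  obtain ⟨y, y1, y2, y3⟩ := C.invS h3 k (by norm_num) t2
  rw [C.inj _ (t1 0 (by norm_num)).1 y y1 ((t1 0 (by norm_num)).2.symm.trans y3), y2] at t3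
  exact absurd t3 (by decide)

end RuZ

theorem bp_Ru (x : Spor.Ru) (hx : orderOf x = 2) : BP 13 x := by
  have := OutS.Ru.netG.fin
  refine .of_map topEquiv.symm ?_
  rcases RuZ.cls _ ((topEquiv.symm.orderOf_eq x).trans hx) with b | b <;> refine .of_isConj b ?_
  · exact .of_five (ev_of_chk (cx OutS.Ru.netG OutS.Ru.cA (ap2_eq 12) Ru.aA.w0) (by norm_num)
      (band_eq_true.1 (of_dicK Ru.aA.ok)).2) RuZ.cardA
      (card_cen2 (cx OutS.Ru.netG OutS.Ru.cA (ap2_eq 12) Ru.aB.w0) (of_dicK Ru.aB.ok)) rfl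
      (gam_eq _ (by decide)) (gam_eq _ (by decide)) (by decide +kernel)
  · exact .of_small RuZ.cardB rfl (by decide +kernel)

omit [Finite G] in
theorem not_mem_comm {G' : Type*} [Group G'] (e : G ≃* G') {x : G} (h : e x ∉ ⁅𝐂[e x], 𝐂[e x]⁆) :
    x ∉ ⁅𝐂[x], 𝐂[x]⁆ := fun k => h (by
  rw [← map_cent1, ← map_commutator]; exact mem_map_of_mem e.toMonoidHom k)

theorem noSz_Ru (e : G ≃* Spor.Ru) : NoSz G := fun x K hx hK xK hS => by
  replace e := e.trans topEquiv.symm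
  have d := (dvd_of_sz hS ((Nat.card_congr e.toEquiv).trans OutS.Ru.netG.card ▸ by decide +kernel)).trans
    (card_dvd hK.le)
  rw [← card_cent_map e] at d
  rcases RuZ.cls _ ((e.orderOf_eq x).trans hx) with b | b <;> obtain ⟨g, b⟩ := isConj_iff.1 b
  · rw [← card_cent_map (MulAut.conj g), MulAut.conj_apply, b, RuZ.cardA] at d
    exact absurd d (by decide)
  · exact not_mem_comm (e.trans (MulAut.conj g)) (x := x) (by
      rw [MulEquiv.trans_apply, MulAut.conj_apply, b]; exact RuZ.not_mem)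
      (commutator_mono hK.le hK.le (hK.perf.ge xK))

end Cfsg.Lib.QE
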