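import Cfsg.Agent.Lib.QE.Def
import Cfsg.Agent.Lib.FGS.PslAut2
import Cfsg.Agent.Lib.JR.J1Main
import Cfsg.Agent.Lib.Sz.Classes
import Cfsg.Agent.Lib.Orth.GammaMat
import Cfsg.Agent.S2602
import Cfsg.Agent.S2126
import Cfsg.Agent.S2065

/-! # QE: the thin simple groups

`L₂(2ⁿ)`: Sylow subgroups are the unipotent groups, `Out` is cyclic of order `n`. `L₂(p)`: `Aut = PGL₂(p)`, four-groups are
self-centralising. `Sz(q)` and `J₁`: `|Out|` is odd. -/

set_option autoImplicit false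

namespace Cfsg.Lib.QE

open Subgroup Cfsg.Lib.BG Cfsg.Lib.PSL2 Cfsg.Lib.Small
open scoped Cfsg.Lib.Transfer MatrixGroups

variable {X Y : Type*} [Group X] [Group Y]

/-- transport of `Out` -/
def outEq (e : Y ≃* X) : Out Y ≃* Out X := QuotientGroup.congr _ _ (MulAut.congr e) (Orth.map_congr_inn e)

theorem Thin.congr [Finite Y] (h : Thin X) (e : Y ≃* X) : Thin Y := by
  haveI := Finite.of_equiv _ e.toEquiv
  have c := Nat.card_congr (outEq e).toEquiv
  let T (S : Sylow 2 Y) : Sylow 2 X := S.mapSurjective (f := e.toMonoidHom) e.surjective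
  have m : ∀ (S : Sylow 2 Y) x, x ∈ (T S : Subgroup X) ↔ e.symm x ∈ (S : Subgroup Y) := fun S x => mem_map_equiv
  have k : ∀ S : Sylow 2 Y, IsMulCommutative (S : Subgroup Y) ↔ IsMulCommutative (T S : Subgroup X) := fun S =>
    ⟨fun a => ⟨⟨fun x y => Subtype.ext (e.symm.injective (by
      simpa using congrArg Subtype.val (a.1.1 ⟨_, (m S _).1 x.2⟩ ⟨_, (m S _).1 y.2⟩)))⟩⟩,
     fun a => ⟨⟨fun x y => Subtype.ext (e.injective (by
      simpa using congrArg Subtype.val (a.1.1 ⟨e x, (m S _).2 (by simp)⟩ ⟨e y, (m S _).2 (by simp)⟩)))⟩⟩⟩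
  refine ⟨fun a b ha hb => ?_, fun σ h2 S hS => ?_, fun A hA => ?_, fun S hS => c ▸ h.nab _ (mt (k S).2 hS),
    fun S hS => ?_, by rw [c, Nat.card_congr e.toEquiv]; exact h.num⟩
  · simpa using e.symm.toMonoidHom.map_isConj (h.one (e a) (e b) (by simpa) (by simpa))
  · have := h.inn (MulAut.congr e σ) (by rw [← map_mul, h2, map_one]) (T S) fun s hs => by
      simp [hS _ ((m S s).1 hs)]
    rw [← Orth.map_congr_inn e] at this
    obtain ⟨τ, a, b⟩ := this
    exact (MulAut.congr e).injective b ▸ a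
  · haveI : IsCyclic (A.map (outEq e : Out Y →* Out X)) := h.cyc _ (hA.map _)
    exact isCyclic_of_surjective _ ((outEq e).subgroupMap A).symm.surjective
  · obtain ⟨a, b⟩ := h.ab _ ((k S).1 hS)
    refine ⟨fun s hs => e.injective (by simpa using a (e s) ((m S _).2 (by simpa))), b.imp (fun b => ?_)
      (.imp (fun b x hx => ?_) fun b => c ▸ b)⟩
    · exact (card_map_of_injective e.injective).symm.trans b
    · refine ((b (e x) (by simpa)).comap_of_injective e.toMonoidHom e.injective).to_le fun y hy => ?_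
      rw [mem_centralizer_singleton_iff] at hy
      rw [mem_comap, mem_centralizer_singleton_iff]
      simpa using congrArg e hy

theorem thin_of_odd [Finite Y] (ho : Odd (Nat.card (Out Y))) (h1 : ∀ a b : Y, orderOf a = 2 → orderOf b = 2 → IsConj a b)
    (h2 : ∀ S : Sylow 2 Y, IsMulCommutative (S : Subgroup Y) → ∀ s ∈ (S : Subgroup Y), s * s = 1)
    (h3 : Num (Nat.card Y) (Nat.card (Out Y))) : Thin Y := by
  have k : ∀ A : Subgroup (Out Y), IsPGroup 2 A → A = ⊥ := fun A hA => by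
    obtain ⟨n, hn⟩ := IsPGroup.iff_card.1 hA
    have := ho.of_dvd_nat A.card_subgroup_dvd_card
    rw [hn] at this
    rcases n with _ | n
    · exact card_eq_one.1 hn
    · exact absurd (this.of_dvd_nat (dvd_pow_self 2 n.succ_ne_zero)) (by decide)
  refine ⟨h1, fun σ h _ _ => (QuotientGroup.eq_one_iff σ).1 ?_, fun A hA => k A hA ▸ inferInstance,
    fun _ _ h => ?_, fun S hS => ⟨h2 S hS, .inr (.inr ho)⟩, h3⟩
  · refine orderOf_eq_one_iff.1 (Nat.eq_one_of_dvd_coprimes (Nat.coprime_two_left.2 ho) ?_ (orderOf_dvd_natCard _))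
    rw [orderOf_dvd_iff_pow_eq_one, sq, ← QuotientGroup.mk_mul, h, QuotientGroup.mk_one]
  · exact absurd (ho.of_dvd_nat h) (by decide)

theorem sq_of_two {a : Y} (h : orderOf a = 2) : a * a = 1 ∧ a ≠ 1 :=
  ⟨by rw [← sq, ← h, pow_orderOf_eq_one], fun e => by simp [e] at h⟩

theorem thin_sz [Finite Y] (h : Lie.IsoSuzuki Y) : Thin Y := by
  obtain ⟨F, _, _, m, hm, hF, ⟨e⟩⟩ := h
  let M := (Sz.lieModel hF).congr e
  have c : Nat.card (Out Y) = 2 * m + 1 := (Nat.card_congr (outEq e).toEquiv).trans (Agent.S2126.result hm hF)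
  refine thin_of_odd (c ▸ odd_two_mul_add_one m) (fun a b ha hb => M.isConj_of_sq (sq_of_two ha).1 (sq_of_two ha).2
    (sq_of_two hb).1 (sq_of_two hb).2) (fun S hS s hs => ?_) (.inr (.inl ⟨m, hm, ?_, c⟩))
  · obtain ⟨x, hx⟩ := M.exists_conj_U_eq S
    rw [hx] at hS hs
    exact (((M.conj x).mem_Z_iff).1 ((M.conj x).mem_Z_of_comm (Sz.exists_ne_zero_ne_one hm hF) hs fun y hy =>
      congrArg Subtype.val (hS.1.1 ⟨y, hy⟩ ⟨s, hs⟩))).2
  · rw [M.card_G, Nat.card_eq_fintype_card, hF]; ring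

theorem thin_J1 : Thin Spor.J1 := by
  obtain ⟨t, c, x, r, h, -⟩ := JR.exists_Am_J1
  refine thin_of_odd (Agent.S2065.result ▸ odd_one) h.oneC (fun S _ s hs => ?_)
    (.inr (.inr (.inr ⟨J1.card_J1, Agent.S2065.result⟩)))
  obtain ⟨T, hT⟩ := h.hl.syl h.odd
  obtain ⟨g, rfl⟩ := MulAction.exists_smul_eq Spor.J1 T S
  obtain ⟨u, hu, rfl⟩ := hs
  have : u * u = 1 := sq u ▸ h.hl.elem.2 u (hT.le hu)
  simp [← map_mul, this]

variable {F : Type} [Field F] [Fintype F]

theorem thin_even [CharP F 2] (h4 : 4 ≤ Nat.card F) : Thin PSL(2, F) := by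
  obtain ⟨n, h0, hn⟩ := exists_card_eq_pow (F := F) 2
  have h2 : 2 ≤ n := by
    by_contra k
    obtain rfl : n = 1 := by omega
    omega
  have g : Nat.gcd 2 (2 ^ n - 1) = 1 := Nat.coprime_two_left.2
    (Nat.Even.sub_odd Nat.one_le_two_pow (Nat.even_pow.2 ⟨even_two, h0.ne'⟩) odd_one)
  obtain ⟨φ, a, -, b⟩ := Agent.S2602.result (F := F) h0 (Nat.card_eq_fintype_card.symm.trans hn) (hn ▸ h4)
  have i : Function.Injective φ := (MonoidHom.ker_eq_bot_iff _).1 (card_eq_one.1 (b.trans g))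
  haveI : IsCyclic (Out PSL(2, F)) := isCyclic_of_injective φ i
  refine ⟨fun _ _ => isConj_psl_of_orderOf_two, fun σ _ S hS => ?_, fun _ _ => inferInstance, fun S hS => ?_,
    fun S _ => ⟨fun s hs => ?_, .inr (.inl fun a ha => ?_)⟩, .inl ⟨n, h2, card_psl_of_eq hn ?_, ?_⟩⟩
  · obtain ⟨x, hx⟩ := exists_sylow_eq_unipL 2 S
    obtain ⟨g, -, rfl⟩ := FGS.inner_of_fix_unipL σ (hx ▸ hS)
    exact ⟨g, rfl⟩
  · obtain ⟨x, hx⟩ := exists_sylow_eq_unipL 2 S
    refine (hS ⟨⟨fun u v => Subtype.ext (toP_injective ?_)⟩⟩).elim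
    simpa using (commute_of_mem_unip (x := x) (hx.le u.2) (hx.le v.2)).eq
  · obtain ⟨x, hx⟩ := exists_sylow_eq_unipL 2 S
    by_cases k : s = 1
    · simp [k]
    · exact (sq_of_two (orderOf_of_mem_unipL 2 (hx.le hs) k)).1
  · obtain ⟨x, hx⟩ := exists_mem_unipL_of_dvd_orderOf 2 ha.symm.dvd
    exact centralizer_of_mem_unipL hx (sq_of_two ha).2 ▸ isPGroup_unipL 2 x
  · rw [g, one_mul, ← pow_mul, mul_comm n 2, pow_mul]; rfl
  · haveI : NeZero n := ⟨h0.ne'⟩
    rw [Nat.card_congr (Equiv.ofBijective φ ⟨i, a⟩)]; simp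

theorem thin_prime (hp : (Nat.card F).Prime) (h4 : 4 ≤ Nat.card F) : Thin PSL(2, F) := by
  haveI := Fact.mk hp
  have h5 : 5 ≤ Nat.card F := by
    by_contra k
    exact absurd ((show Nat.card F = 4 by omega) ▸ hp) (by decide)
  have o : Odd (Nat.card F) := hp.odd_of_ne_two (by omega)
  have hF : Fintype.card F = Nat.card F ^ 1 := by simp
  have g : Nat.gcd 2 (Nat.card F - 1) = 2 := Nat.gcd_eq_left (Nat.Odd.sub_odd o odd_one).two_dvd
  obtain ⟨φ, -, -, b⟩ := Agent.S2602.result (F := F) le_rfl hF (by simpa using h4)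
  have c : Nat.card (Out PSL(2, F)) = 2 := by
    rw [← card_top, ← (eq_top_iff' φ.ker).2 fun x => Subsingleton.elim _ _, b, pow_one, g]
  haveI := Fact.mk Nat.prime_two
  haveI : IsCyclic (Out PSL(2, F)) := isCyclic_of_prime_card c
  refine ⟨fun _ _ => isConj_psl_of_orderOf_two, fun σ _ S hS => ?_, fun _ _ => inferInstance, fun _ _ => by rw [c]; decide,
    fun S hS => ?_, .inr (.inr (.inl ⟨_, hp, h5, by simpa only [g] using card_PSL2_mul (K := F), c⟩))⟩
  · obtain ⟨y, τ, rfl, -⟩ := FGS.aut_decomp σ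
    obtain ⟨e⟩ := Linear.nonempty_ringAut_equiv_zmod hF
    obtain rfl : τ = 1 := e.injective (Subsingleton.elim _ _)
    rw [map_one, mul_one] at hS ⊢
    obtain ⟨V, hV⟩ := exists_four_psl o
    obtain ⟨T, hT⟩ := (IsPGroup.of_card (p := 2) (n := 2) hV.card_four).exists_le_sylow
    obtain ⟨u, rfl⟩ := MulAction.exists_smul_eq PSL(2, F) T S
    have hW := isKleinFour_map toP_injective (isKleinFour_map (f := (MulAut.conj u).toMonoidHom) (MulAut.conj u).injective hV)
    have : y ∈ 𝐂((V.map (MulAut.conj u).toMonoidHom).map toP) := fun _ ⟨s, ⟨v, hv, b⟩, a⟩ => by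
      apply GW.pglAut_injective
      rw [← a, map_mul, map_mul, GW.pglAut_toP]
      ext z
      simp [hS s ⟨v, hT hv, b⟩]
    rw [centralizer_four_pgl o hW] at this
    obtain ⟨s, -, rfl⟩ := this
    exact ⟨s, (GW.pglAut_toP s).symm⟩
  · have := JR.psl_syl_four o (JR.ab2_of_sylow S hS) (Syl.of_sylow_top S)
    exact ⟨fun s hs => mul_self_of_isKleinFour this hs, .inl this.card_four⟩

theorem thin_of_cyL {Y : Type*} [Group Y] [Finite Y] [IsSimpleGroup Y] (hn : ¬ IsMulCommutative Y)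
    (h : QT.CyL Y) : Thin Y := by
  rcases h with ⟨F, _, _, _, ⟨e⟩⟩ | h | ⟨F, _, _, hp, -, ⟨e⟩⟩ | ⟨⟨e⟩⟩
  · haveI := e.symm.isSimpleGroup
    exact (thin_even four_le_card_of_simple).congr e
  · exact thin_sz h
  · haveI := e.symm.isSimpleGroup
    exact (thin_prime (Nat.card_eq_fintype_card (α := F) ▸ hp) four_le_card_of_simple).congr e
  · exact thin_J1.congr e

end Cfsg.Lib.QE
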