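import Cfsg.Agent.Lib.QE.Def
import Cfsg.Agent.Lib.KI.SpG
import Cfsg.Agent.Lib.Sz.Instances
import Cfsg.Agent.Lib.Sz.Borel

/-! # QE: arithmetic of the thin orders, and the reductions of `BigC`, `BigN`, `PuN`, `NoSz` to centraliser orders -/

set_option autoImplicit false

namespace Cfsg.Lib.QE

open Subgroup Cfsg.Lib.BG Cfsg.Lib.Comp Cfsg.Lib.KI
open scoped Cfsg.Lib.Transfer

/-- a common multiple of the orders of the sporadic groups of (E2) -/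
def C0 : ℕ := 2 ^ 21 * 3 ^ 3 * 5 ^ 3 * 7 * 11 ^ 3 * 13 * 23 * 29 * 31 * 37 * 43

/-- the solutions of `Num N o` with `N ∣ C0` -/
def L0 : List (ℕ × ℕ) := [(60, 2), (504, 3), (32736, 5), (262080, 6), (29120, 3), (168, 2), (660, 2), (1092, 2),
  (6072, 2), (12180, 2), (14880, 2), (39732, 2)]

theorem lt_of_pow_dvd {n : ℕ} (h : 2 ^ n ∣ C0) : n < 22 := by
  by_contra c
  exact absurd ((pow_dvd_pow 2 (not_lt.1 c)).trans h) (by decide +kernel)

theorem sz_eq {m : ℕ} (hm : 1 ≤ m)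
    (h : (2 ^ (2 * m + 1)) ^ 2 * ((2 ^ (2 * m + 1)) ^ 2 + 1) * (2 ^ (2 * m + 1) - 1) ∣ C0) : m = 1 := by
  have : (2 * m + 1) * 2 < 22 := lt_of_pow_dvd (by
    rw [pow_mul]; exact ((dvd_mul_right _ _).trans (dvd_mul_right _ _)).trans h)
  exact (by decide +kernel : ∀ m < 6, 1 ≤ m →
    (2 ^ (2 * m + 1)) ^ 2 * ((2 ^ (2 * m + 1)) ^ 2 + 1) * (2 ^ (2 * m + 1) - 1) ∣ C0 → m = 1) m (by omega) hm h

theorem Num.mem {N o : ℕ} (h : Num N o) (hc : N ∣ C0) : (N, o) ∈ L0 := by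
  rcases h with ⟨n, h2, rfl, rfl⟩ | ⟨m, h1, rfl, rfl⟩ | ⟨p, hp, h5, e, rfl⟩ | ⟨rfl, rfl⟩
  · exact List.elem_iff.1 ((by decide +kernel : ∀ n < 22, 2 ≤ n → 2 ^ n * (4 ^ n - 1) ∣ C0 →
      L0.elem (2 ^ n * (4 ^ n - 1), n) = true) o (lt_of_pow_dvd ((dvd_mul_right _ _).trans hc)) h2 hc)
  · obtain rfl := sz_eq h1 hc
    decide +kernel
  · have d : p ≤ 43 := hp.dvd_factorial.1 (((dvd_mul_right p _).trans (e ▸ mul_dvd_mul_left 2 hc)).trans
      (by decide +kernel))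
    obtain rfl : N = p * (p ^ 2 - 1) / 2 := by omega
    exact List.elem_iff.1 ((by decide +kernel : ∀ p < 44, 5 ≤ p → (∀ k < p, 2 ≤ k → ¬ k ∣ p) →
      p * (p ^ 2 - 1) / 2 ∣ C0 → L0.elem (p * (p ^ 2 - 1) / 2, 2) = true) p (by omega) h5 (fun k a b c => by
        rcases (Nat.dvd_prime hp).1 c with c | c <;> omega) hc)
  · exact absurd hc (by decide +kernel)

variable {Y Y' : Type*} [Group Y] [Group Y'] [Finite Y]

theorem pow_dvd_sylow {s : ℕ} (h : 2 ^ s ∣ Nat.card Y) (S : Sylow 2 Y) : 2 ^ s ∣ Nat.card S :=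
  S.card_eq_multiplicity ▸ pow_dvd_pow 2 ((Nat.prime_two.pow_dvd_iff_le_factorization Nat.card_pos.ne').1 h)

theorem pow_dvd_half {s : ℕ} (h : 2 ^ (s + 1) ∣ Nat.card Y) (S : Sylow 2 Y) {P : Subgroup Y} (hP : IsPGroup 2 P)
    (hc : Nat.card S ≤ 2 * Nat.card P) : 2 ^ s ∣ Nat.card P := by
  obtain ⟨k, e⟩ := hP.exists_card_eq
  have := (Nat.le_of_dvd Nat.card_pos (pow_dvd_sylow h S)).trans hc
  rw [e, ← pow_succ'] at this
  exact e ▸ pow_dvd_pow 2 (Nat.le_of_succ_le_succ ((Nat.pow_le_pow_iff_right one_lt_two).1 this))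

theorem bigC_of {s : ℕ} (hs : 2 ^ (s + 1) ∣ Nat.card Y)
    (h : ∀ x : Y, orderOf x = 2 → 2 ^ s ∣ Nat.card 𝐂[x] → ChP 2 𝐂[x]) : BigC Y := fun x _ S hx hP h2 hc =>
  h x hx ((pow_dvd_half hs S h2 hc).trans (card_dvd hP))

omit [Finite Y] in
theorem bigC_of_all (h : ∀ x : Y, orderOf x = 2 → ChP 2 𝐂[x]) : BigC Y := fun x _ _ hx _ _ _ => h x hx

/-- the condition on one involution centraliser -/
def BP (s : ℕ) (x : Y) : Prop :=
  2 ^ s ∣ Nat.card 𝐂[x] → ∀ q ∈ L0, q.1 ∣ Nat.card 𝐂[x] → ∃ r, r.Prime ∧ r ∣ q.1 ∧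
    ∀ y ∈ 𝐂[x], orderOf y = r → ¬ 2 ^ s ∣ q.1 * q.2 * Nat.card ↥(𝐂[x] ⊓ 𝐂[y])

omit [Finite Y] in
theorem card_inf_map (e : Y ≃* Y') (x y : Y) : Nat.card ↥(𝐂[e x] ⊓ 𝐂[e y]) = Nat.card ↥(𝐂[x] ⊓ 𝐂[y]) := by
  rw [← map_cent1, ← map_cent1, ← map_inf _ _ _ e.injective, card_map_of_injective e.injective]

omit [Finite Y] in
theorem card_cent_map (e : Y ≃* Y') (x : Y) : Nat.card 𝐂[e x] = Nat.card 𝐂[x] := by
  rw [← map_cent1, card_map_of_injective e.injective]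

omit [Finite Y] in
theorem BP.of_map {s : ℕ} {x : Y} (e : Y ≃* Y') (h : BP s (e x)) : BP s x := fun a q hq b => by
  rw [← card_cent_map e] at a b
  obtain ⟨r, c, d, f⟩ := h a q hq b
  refine ⟨r, c, d, fun y hy o => card_inf_map e x y ▸ f _ (mem_cent1.2 ?_) ((e.orderOf_eq y).trans o)⟩
  rw [← map_mul, mem_cent1.1 hy, map_mul]

omit [Finite Y] in
theorem BP.of_isConj {s : ℕ} {x y : Y} (c : IsConj x y) (h : BP s y) : BP s x := by
  obtain ⟨g, rfl⟩ := isConj_iff.1 c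
  exact BP.of_map (MulAut.conj g) h

omit [Finite Y] in
theorem Tn.dvd {L : Subgroup Y} {N o : ℕ} (h : Tn L N o) : N ∣ Nat.card L := h.card ▸ dvd_mul_right _ _

theorem bigN_of {s : ℕ} (hY : Nat.card Y ∣ C0) (hs : 2 ^ (s + 1) ∣ Nat.card Y)
    (h : ∀ x : Y, orderOf x = 2 → BP s x) : BigN Y := fun L P N o S _ hT hP h2 hc => by
  by_contra hQ
  obtain ⟨x, hx, xc, xo⟩ := PGroup.exists_mem_centralizer_orderOf_eq (p := 2) (h2.to_le inf_le_left) h2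
    (norm_inf le_normalizer (norm_cent hP)) hQ
  have a : P ≤ 𝐂[x] := le_cent1_iff.2 xc
  have b : L ≤ 𝐂[x] := le_cent1_iff.2 hx.2
  have d := pow_dvd_half hs S h2 hc
  have n := hT.dvd.trans (card_dvd b)
  obtain ⟨r, c, f, k⟩ := h x xo (d.trans (card_dvd a)) _
    (hT.num.mem (n.trans ((card_subgroup_dvd_card _).trans hY))) n
  have := Fact.mk c
  obtain ⟨y, hy⟩ := exists_prime_orderOf_dvd_card' r (f.trans hT.dvd)
  refine k y (b y.2) ((orderOf_coe y).trans hy) (d.trans ?_)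
  rw [← BG.card_mul_relIndex (inf_le_left : P ⊓ 𝐂(L) ≤ P), inf_relIndex_left, mul_comm]
  exact mul_dvd_mul (hT.aut P hP h2) (card_dvd (le_inf (inf_le_left.trans a)
    (inf_le_right.trans (cent_le_cent1 y.2))))

theorem puN_of {s : ℕ} (hY : Nat.card Y ∣ C0) (hs : 2 ^ s ∣ Nat.card Y)
    (h : ∀ q ∈ L0, q.1 ∣ Nat.card Y → ¬ 2 ^ s ∣ q.1 * q.2) : PuN Y := fun L N o S _ hT hS e => by
  have n := hT.dvd.trans (card_subgroup_dvd_card L)
  refine h _ (hT.num.mem (n.trans hY)) n ((pow_dvd_sylow hs S).trans ?_)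
  have := hT.aut S hS S.isPGroup'
  rwa [← inf_relIndex_left, e, relIndex_bot_left] at this

omit [Finite Y] in
theorem card_of_sz (h : Lie.IsoSuzuki Y) (hY : Nat.card Y ∣ C0) : Nat.card Y = 29120 := by
  obtain ⟨F, _, _, m, hm, hF, ⟨e⟩⟩ := h
  have c := (Nat.card_congr e.toEquiv).trans (Sz.lieModel hF).card_G
  rw [Nat.card_eq_fintype_card (α := F), hF, mul_right_comm] at c
  obtain rfl := sz_eq hm (c ▸ hY)
  exact c

omit [Finite Y] in
theorem dvd_of_sz {K : Subgroup Y} (h : Lie.IsoSuzuki (K ⧸ center K)) (hY : Nat.card Y ∣ C0) : 29120 ∣ Nat.card K :=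
  have d := card_quotient_dvd_card (center K)
  card_of_sz h (d.trans ((card_subgroup_dvd_card K).trans hY)) ▸ d

omit [Finite Y] in
theorem noSz_of_card (hY : Nat.card Y ∣ C0) (h : ¬ 29120 ∣ Nat.card Y) : NoSz Y := fun _ K _ _ _ c =>
  h ((dvd_of_sz c hY).trans (card_subgroup_dvd_card K))

theorem noSz_of_all (h : ∀ x : Y, orderOf x = 2 → ChP 2 𝐂[x]) : NoSz Y := fun x _ hx hK _ _ =>
  hK.ne_bot (eq_bot_mono (chP_iff_layer.1 (h x hx)).1 hK.le_layer)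

/-- elements of order `p` in a subgroup with a Sylow subgroup of order `p` have centralisers of the same order -/
theorem card_inf_cent_eq {C : Subgroup Y} {p : ℕ} [Fact p.Prime] (h : ¬ p * p ∣ Nat.card C) {y z : Y} (hy : y ∈ C)
    (hz : z ∈ C) (oy : orderOf y = p) (oz : orderOf z = p) : Nat.card ↥(C ⊓ 𝐂[y]) = Nat.card ↥(C ⊓ 𝐂[z]) := by
  have s : ∀ w ∈ C, orderOf w = p → Syl p (zpowers w) C := fun w hw o =>
    have c := (Nat.card_zpowers w).trans o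
    .mk' (zpowers_le.2 hw) (.of_card (c.trans (pow_one p).symm)) fun d =>
      h (BG.card_mul_relIndex (zpowers_le.2 hw) ▸ mul_dvd_mul c.symm.dvd d)
  obtain ⟨g, hg, e⟩ := (s z hz oz).exists_conj_eq (s y hy oy)
  rw [← cent_zpowers y, e, ← Transfer.conj_centralizer, cent_zpowers, ← Transfer.card_conj g (C ⊓ 𝐂[z]),
    Transfer.conj_inf, Transfer.conj_eq_self_of_mem hg]

end Cfsg.Lib.QE
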