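import Cfsg.Agent.Lib.QE.Def
import Cfsg.Agent.Lib.Comp.Schreier
import Cfsg.Agent.Lib.Comp.PumpTwo
import Cfsg.Agent.Lib.Transfer.Fusion
import Cfsg.Agent.S0204

/-! # QE: passing from a quasisimple subgroup `L` to `L / Z(L)` -/

set_option autoImplicit false
set_option linter.unusedSectionVars false

namespace Cfsg.Lib.QE

open Subgroup Cfsg.Lib.BG Cfsg.Lib.Comp Cfsg.Lib.Core
open scoped Cfsg.Lib.Transfer commutatorElement

section Abs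

variable {Y Y' : Type*} [Group Y] [Group Y']

theorem card_out_congr (e : Y ≃* Y') : Nat.card (Out Y) = Nat.card (Out Y') :=
  Nat.card_congr (QuotientGroup.congr _ _ (MulAut.congr e) (by
    ext φ
    constructor
    · rintro ⟨_, ⟨g, rfl⟩, rfl⟩
      exact ⟨e g, by ext; simp⟩
    · rintro ⟨g, rfl⟩
      exact ⟨_, ⟨e.symm g, rfl⟩, by ext; simp⟩)).toEquiv

theorem card_aut [Finite Y] (h : center Y = ⊥) : Nat.card (MulAut Y) = Nat.card Y * Nat.card (Out Y) := by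
  have i : Function.Injective (MulAut.conj : Y →* MulAut Y) := (injective_iff_map_eq_one _).2 fun g hg =>
    h.le (mem_center_iff.2 fun x => (mul_inv_eq_iff_eq_mul.1 (congrArg (fun a : MulAut Y => a x) hg)).symm)
  rw [card_eq_card_quotient_mul_card_subgroup (MulAut.conj : Y →* MulAut Y).range,
    ← Nat.card_congr (MonoidHom.ofInjective i).toEquiv, mul_comm]

theorem cq_equiv (h : IsQuasisimple Y) [Nontrivial Y'] {f : Y →* Y'} (hf : Function.Surjective f) :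
    Nonempty (Y ⧸ center Y ≃* Y' ⧸ center Y') := by
  have h1 : ((QuotientGroup.mk' (center Y')).comp f).ker = center Y := by
    rw [← MonoidHom.comap_ker, QuotientGroup.ker_mk', isQuasisimple_comap_center h hf]
  exact ⟨(QuotientGroup.quotientMulEquivOfEq h1.symm).trans
    (QuotientGroup.quotientKerEquivOfSurjective _ ((QuotientGroup.mk'_surjective _).comp hf))⟩

theorem cq_center (h : IsQuasisimple Y) : center (Y ⧸ center Y) = ⊥ := by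
  haveI := h.2
  refine (inferInstance : (center (Y ⧸ center Y)).Normal).eq_bot_or_eq_top.resolve_right fun e => ?_
  exact isQuasisimple_quotient_center_not_isMulCommutative h
    ⟨⟨fun a b => (mem_center_iff.1 (e.ge (mem_top b)) a)⟩⟩

end Abs

variable {G : Type*} [Group G] [Finite G] {A B J K L P Q S T X : Subgroup G} {a b c g x y : G}

theorem syl_inf_sn {p : ℕ} {H : Subgroup G} (hT : Syl p T H) (h : SubnormalIn K H) : Syl p (T ⊓ K) K := by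
  refine h.head_induction (P := fun K => Syl p (T ⊓ K) K) ?_ ?_
  · rwa [inf_eq_left.2 hT.le]
  · intro A B _ hAB hn _ ih
    have := Hall.inf_nml ih ⟨hAB, hn⟩
    rwa [inf_assoc, inf_eq_right.2 hAB] at this

/-- the class of `a ∈ L` in `L / Z(L)` -/
abbrev cl (ha : a ∈ L) : L ⧸ center L := QuotientGroup.mk ⟨a, ha⟩

theorem mem_center' (ha : a ∈ L) : (⟨a, ha⟩ : L) ∈ center L ↔ a ∈ 𝐂(L) := by
  rw [mem_center_iff, mem_cent]
  exact ⟨fun h x hx => congrArg Subtype.val (h ⟨x, hx⟩), fun h x => Subtype.ext (h x x.2)⟩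

theorem cl_eq (ha : a ∈ L) (hb : b ∈ L) : cl ha = cl hb ↔ a⁻¹ * b ∈ 𝐂(L) :=
  QuotientGroup.eq.trans (mem_center' (mul_mem (inv_mem ha) hb))

theorem cl_one (ha : a ∈ L) : cl ha = 1 ↔ a ∈ 𝐂(L) := (QuotientGroup.eq_one_iff _).trans (mem_center' ha)

theorem cl_surj (y : L ⧸ center L) : ∃ a, ∃ ha : a ∈ L, cl ha = y := by
  obtain ⟨⟨a, ha⟩, rfl⟩ := QuotientGroup.mk_surjective y
  exact ⟨a, ha, rfl⟩

theorem cl_mul (ha : a ∈ L) (hb : b ∈ L) : cl ha * cl hb = cl (mul_mem ha hb) := rfl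

theorem cl_inv (ha : a ∈ L) : (cl ha)⁻¹ = cl (inv_mem ha) := rfl

theorem cl_ord (ha : a ∈ L) : orderOf (cl ha) = 2 ↔ a * a ∈ 𝐂(L) ∧ a ∉ 𝐂(L) := by
  rw [← cl_one (mul_mem ha ha), ← cl_one ha, ← cl_mul ha ha]
  exact ⟨fun h => ⟨Inv.mul_self_of_orderOf h, fun e => by simp [e] at h⟩,
    fun h => orderOf_eq_prime (by rw [pow_two, h.1]) h.2⟩

theorem cl_comm (ha : a ∈ L) (hb : b ∈ L) : cl ha * cl hb = cl hb * cl ha ↔ a * b * a⁻¹ * b⁻¹ ∈ 𝐂(L) := by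
  rw [← cl_one (mul_mem (mul_mem (mul_mem ha hb) (inv_mem ha)) (inv_mem hb))]
  change _ ↔ cl ha * cl hb * (cl ha)⁻¹ * (cl hb)⁻¹ = 1
  rw [mul_inv_eq_one, mul_inv_eq_iff_eq_mul]

/-- the image of `X ⊓ L` in `L / Z(L)` -/
def br (L X : Subgroup G) : Subgroup (L ⧸ center L) := (X.subgroupOf L).map (QuotientGroup.mk' _)

theorem mem_br {y : L ⧸ center L} : y ∈ br L X ↔ ∃ a ∈ X, ∃ ha : a ∈ L, cl ha = y :=
  ⟨fun ⟨a, h, e⟩ => ⟨a, h, a.2, e⟩, fun ⟨a, h, ha, e⟩ => ⟨⟨a, ha⟩, h, e⟩⟩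

theorem cl_mem (ha : a ∈ L) (h : a ∈ X) : cl ha ∈ br L X := mem_br.2 ⟨a, h, ha, rfl⟩

theorem mem_of_cl (ha : a ∈ L) (h : cl ha ∈ br L X) (hZ : 𝐙(L) ≤ X) : a ∈ X := by
  obtain ⟨b, hb, hb', e⟩ := mem_br.1 h
  have := mul_mem hb (hZ (mem_inf.2 ⟨mul_mem (inv_mem hb') ha, (cl_eq _ _).1 e⟩))
  rwa [mul_inv_cancel_left] at this

theorem br_mono (h : A ≤ B) : br L A ≤ br L B := map_mono fun _ hx => h hx

theorem br_self : br L L = ⊤ := by
  rw [br, subgroupOf_self, ← MonoidHom.range_eq_map, MonoidHom.range_eq_top.2 (QuotientGroup.mk'_surjective _)]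

theorem br_eq_bot (h : X ≤ L) : br L X = ⊥ ↔ X ≤ 𝐂(L) :=
  ⟨fun e a ha => (cl_one (h ha)).1 (mem_bot.1 (e ▸ cl_mem (h ha) ha)), fun e => eq_bot_iff.2 fun y hy => by
    obtain ⟨a, h1, h2, rfl⟩ := mem_br.1 hy
    exact (cl_one h2).2 (e h1)⟩

theorem br_comm (hA : A ≤ L) (hB : B ≤ L) : br L ⁅A, B⁆ = ⁅br L A, br L B⁆ := by
  rw [br, br, br, ← map_commutator, Core.commutator_subgroupOf hA hB]

theorem br_norm (h : A ≤ 𝐍(B)) : br L A ≤ 𝐍(br L B) :=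
  map_norm _ (le_norm_iff.2 fun a ha b hb => conj_mem_of_norm (H := B) (h ha) hb)

theorem br_cent (h : A ≤ 𝐂(B)) : br L A ≤ 𝐂(br L B) :=
  map_cent _ (le_cent_iff.2 fun a ha b hb => Subtype.ext (le_cent_iff.1 h a ha b hb))

theorem br_pgroup {p : ℕ} (h : IsPGroup p X) : IsPGroup p (br L X) := h.comap_subtype.map _

theorem card_br (h : X ≤ L) : Nat.card (br L X) = 𝐂(L).relIndex X := by
  rw [br, ← relIndex_ker, QuotientGroup.ker_mk', ← relIndex_subgroupOf h]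
  congr 1
  ext a
  exact mem_center' a.2

theorem br_syl (h : Syl 2 T L) : ∃ S : Sylow 2 (L ⧸ center L), (S : Subgroup _) = br L T := by
  have := ((Hall.subgroupOf_iff le_rfl h.le).2 h).map (QuotientGroup.mk' (center L))
  exact Syl.top_iff_sylow.1 (by rwa [← br, ← br, br_self] at this)

theorem card_cq : Nat.card L = Nat.card (L ⧸ center L) * Nat.card ↥(L ⊓ 𝐂(L)) := by
  rw [card_eq_card_quotient_mul_card_subgroup (center L), ← card_map_of_injective L.subtype_injective]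
  congr 3
  ext a
  exact ⟨fun ⟨b, h, e⟩ => e ▸ mem_inf.2 ⟨b.2, (mem_center' b.2).1 h⟩,
    fun h => ⟨⟨a, h.1⟩, (mem_center' _).2 h.2, rfl⟩⟩

/-- the action of `N(L)` on `L / Z(L)` -/
abbrev ac (L : Subgroup G) : 𝐍(L) →* MulAut (L ⧸ center L) := actCenterQuot (K := L) (H := 𝐍(L)) le_rfl

theorem ac_cl (hx : x ∈ 𝐍(L)) (ha : a ∈ L) : ac L ⟨x, hx⟩ (cl ha) = cl (conj_mem_of_norm hx ha) := rfl

theorem ac_one (hL : ⁅L, L⁆ = L) (hx : x ∈ 𝐍(L)) : ac L ⟨x, hx⟩ = 1 ↔ x ∈ 𝐂(L) := by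
  rw [← MonoidHom.mem_ker, ker_actCenterQuot _ hL]; rfl

theorem ac_inn (hL : ⁅L, L⁆ = L) (hx : x ∈ 𝐍(L)) : ac L ⟨x, hx⟩ ∈ Inn (L ⧸ center L) ↔ x ∈ L ⊔ 𝐂(L) := by
  have h1 : ∀ a (ha : a ∈ L), ac L ⟨a, le_norm L ha⟩ = MulAut.conj (cl ha) := fun a ha => by
    ext y
    obtain ⟨b, hb, rfl⟩ := cl_surj y
    rfl
  rw [mem_sup_left_norm (cent_le_norm L)]
  constructor
  · rintro ⟨y, e⟩
    obtain ⟨a, ha, rfl⟩ := cl_surj y
    refine ⟨a, ha, a⁻¹ * x, (ac_one hL (mul_mem (inv_mem (le_norm L ha)) hx)).1 ?_, by group⟩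
    rw [show (⟨a⁻¹ * x, _⟩ : 𝐍(L)) = (⟨a, le_norm L ha⟩ : 𝐍(L))⁻¹ * ⟨x, hx⟩ from rfl, map_mul, map_inv, h1 a ha, e,
      inv_mul_cancel]
  · rintro ⟨a, ha, c, hc, rfl⟩
    rw [show (⟨a * c, _⟩ : 𝐍(L)) = (⟨a, le_norm L ha⟩ : 𝐍(L)) * ⟨c, cent_le_norm L hc⟩ from rfl, map_mul,
      (ac_one hL _).2 hc, mul_one, h1 a ha]
    exact ⟨_, rfl⟩

theorem relIndex_dvd_aut (hq : IsQuasisimple L) (hP : P ≤ 𝐍(L)) :
    𝐂(L).relIndex P ∣ Nat.card (L ⧸ center L) * Nat.card (Out (L ⧸ center L)) := by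
  rw [← card_aut (cq_center hq), ← relIndex_subgroupOf hP, ← ker_actCenterQuot le_rfl (qs_iff.1 hq).2.1,
    relIndex_ker]
  exact card_subgroup_dvd_card _

theorem inn0 (hq : IsQuasisimple J) (h : Inn0 (J ⧸ center J)) (hx : x ∈ 𝐍(J)) (h2 : x * x ∈ 𝐂(J))
    (hS : Syl 2 S J) (hc : ∀ s ∈ S, x * s * x⁻¹ * s⁻¹ ∈ 𝐂(J)) : x ∈ J ⊔ 𝐂(J) := by
  have hp := (qs_iff.1 hq).2.1
  obtain ⟨R, e⟩ := br_syl hS
  refine (ac_inn hp hx).1 (h _ ?_ R fun y hy => ?_)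
  · rw [← map_mul]; exact (ac_one hp (mul_mem hx hx)).2 h2
  · obtain ⟨s, hs, hs', rfl⟩ := mem_br.1 (e ▸ hy)
    rw [ac_cl, eq_comm, cl_eq]
    have := conj_mem_of_norm' (norm_cent (le_norm J) hs') (hc s hs)
    simpa only [mul_assoc, inv_mul_cancel, mul_one] using this

theorem four_dvd (hq : IsQuasisimple J) (hS : Syl 2 S J) : 4 ∣ 𝐂(J).relIndex S := by
  haveI := hq.2
  obtain ⟨E, hE⟩ := Agent.S0204.result (G := J ⧸ center J) fun h =>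
    isQuasisimple_quotient_center_not_isMulCommutative hq h.isMulCommutative
  obtain ⟨R, e⟩ := br_syl hS
  rw [← card_br hS.le, ← e, ← hE.card_four]
  exact (Syl.of_sylow_top R).card_dvd le_top
    (PiGrp.p_iff.2 (IsPGroup.of_card (n := 2) hE.card_four))

theorem center_le_syl (hZ : IsPGroup 2 ↥𝐙(J)) (hS : Syl 2 S J) : 𝐙(J) ≤ S :=
  hS.ge_of_norm_p inf_le_left hZ (norm_center (hS.le.trans (le_norm J)))

theorem center_le_der (hp : ⁅J, J⁆ = J) (hZ : IsPGroup 2 ↥𝐙(J)) (hS : Syl 2 S J) : 𝐙(J) ≤ ⁅S, S⁆ := by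
  have h0 := center_le_syl hZ hS
  obtain ⟨R, rfl⟩ := Syl.iff_sylow.1 hS
  intro a ha
  rw [← map_commutator]
  refine ⟨⟨a, ha.1⟩, Transfer.center_inf_commutator_inf_sylow_le R ⟨⟨(mem_center' _).2 ha.2, ?_⟩, ?_⟩, rfl⟩
  · rw [← map_subtype_commutator] at hp
    obtain ⟨b, hb, e⟩ := hp.ge ha.1
    exact (show b = ⟨a, ha.1⟩ from Subtype.ext e) ▸ hb
  · obtain ⟨b, hb, e⟩ := h0 ha
    exact (show b = ⟨a, ha.1⟩ from Subtype.ext e) ▸ hb

end Cfsg.Lib.QE
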