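import Cfsg.Agent.Lib.QT.CycMain
import Cfsg.Agent.Lib.Comp.PrimPair
import Cfsg.Prelude.Def_KGroupFacts

/-! # QE tower (S1848): the `K`-group facts that are used -/

set_option autoImplicit false

namespace Cfsg.Lib.QE

open Subgroup Cfsg.Lib.BG Cfsg.Lib.Comp
open scoped Cfsg.Lib.Transfer

/-- the orders of `Y` and `Out Y` for `Y = L₂(2ⁿ)`, `Sz(q)`, `L₂(p)`, `J₁` -/
def Num (N o : ℕ) : Prop :=
  (∃ n, 2 ≤ n ∧ N = 2 ^ n * (4 ^ n - 1) ∧ o = n) ∨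
  (∃ m, 1 ≤ m ∧ N = (2 ^ (2 * m + 1)) ^ 2 * ((2 ^ (2 * m + 1)) ^ 2 + 1) * (2 ^ (2 * m + 1) - 1) ∧ o = 2 * m + 1) ∨
  (∃ p, p.Prime ∧ 5 ≤ p ∧ 2 * N = p * (p ^ 2 - 1) ∧ o = 2) ∨ (N = 175560 ∧ o = 1)

/-- involutory automorphisms that fix a Sylow 2-subgroup pointwise are inner -/
def Inn0 (Y : Type*) [Group Y] : Prop :=
  ∀ σ : MulAut Y, σ * σ = 1 → ∀ S : Sylow 2 Y, (∀ s ∈ (S : Subgroup Y), σ s = s) → σ ∈ Inn Y

/-- what is used of the thin simple groups -/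
structure Thin (Y : Type*) [Group Y] : Prop where
  one : ∀ a b : Y, orderOf a = 2 → orderOf b = 2 → IsConj a b
  inn : Inn0 Y
  cyc : ∀ A : Subgroup (Out Y), IsPGroup 2 A → IsCyclic A
  nab : ∀ S : Sylow 2 Y, ¬ IsMulCommutative (S : Subgroup Y) → ¬ 4 ∣ Nat.card (Out Y)
  ab : ∀ S : Sylow 2 Y, IsMulCommutative (S : Subgroup Y) → (∀ s ∈ (S : Subgroup Y), s * s = 1) ∧
    (Nat.card S = 4 ∨ (∀ a : Y, orderOf a = 2 → IsPGroup 2 𝐂[a]) ∨ Odd (Nat.card (Out Y)))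
  num : Num (Nat.card Y) (Nat.card (Out Y))

/-- the simple sections of the components allowed by (E2) -/
def E2S (Y : Type*) [Group Y] : Prop :=
  IsChevSimple 2 Y ∨
  (∃ (F : Type) (_ : Field F) (_ : Fintype F), Fintype.card F = 3 ∧
    Nonempty (Y ≃* Matrix.ProjectiveSpecialLinearGroup (Fin 3) F)) ∨
  (∃ (F : Type) (_ : Field F) (_ : Fintype F), IsTwoPowerNeighbourPrime (Fintype.card F) ∧
    Nonempty (Y ≃* Matrix.ProjectiveSpecialLinearGroup (Fin 2) F)) ∨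
  (Spor.IsoM11 Y ∨ Spor.IsoM12 Y ∨ Spor.IsoM22 Y ∨ Spor.IsoM23 Y ∨ Spor.IsoM24 Y ∨ Spor.IsoJ2 Y ∨
    Spor.IsoJ4 Y ∨ Spor.IsoHS Y ∨ Spor.IsoRu Y)

variable {Y : Type*} [Group Y]

/-- the numerical shadow of a quasisimple subgroup `L` with thin central quotient of order `N` -/
structure Tn (L : Subgroup Y) (N o : ℕ) : Prop where
  num : Num N o
  card : Nat.card L = N * Nat.card ↥(L ⊓ 𝐂(L))
  two : IsPGroup 2 ↥(L ⊓ 𝐂(L))
  aut : ∀ P ≤ 𝐍(L), IsPGroup 2 P → 𝐂(L).relIndex P ∣ N * o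

/-- involutions centralised by at least half of a Sylow 2-subgroup have centralisers of characteristic 2 -/
def BigC (Y : Type*) [Group Y] : Prop :=
  ∀ (x : Y) (P : Subgroup Y) (S : Sylow 2 Y), orderOf x = 2 → P ≤ 𝐂[x] → IsPGroup 2 P →
    Nat.card S ≤ 2 * Nat.card P → ChP 2 𝐂[x]

/-- at least half of a Sylow 2-subgroup acts faithfully on a thin subgroup that it normalises -/
def BigN (Y : Type*) [Group Y] : Prop :=
  ∀ (L P : Subgroup Y) (N o : ℕ) (S : Sylow 2 Y), L ≠ ⊤ → Tn L N o → P ≤ 𝐍(L) → IsPGroup 2 P →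
    Nat.card S ≤ 2 * Nat.card P → P ⊓ 𝐂(L) = ⊥

/-- no Sylow 2-subgroup acts faithfully on a proper thin subgroup -/
def PuN (Y : Type*) [Group Y] : Prop :=
  ∀ (L : Subgroup Y) (N o : ℕ) (S : Sylow 2 Y), L ≠ ⊤ → Tn L N o → (S : Subgroup Y) ≤ 𝐍(L) →
    (S : Subgroup Y) ⊓ 𝐂(L) ≠ ⊥

/-- no involution lies in a component of Suzuki type of its centraliser -/
def NoSz (Y : Type*) [Group Y] : Prop :=
  ∀ (x : Y) (K : Subgroup Y), orderOf x = 2 → Cmp K 𝐂[x] → x ∈ K → ¬ Lie.IsoSuzuki (K ⧸ center K)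

end Cfsg.Lib.QE
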